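import Mathlib.LinearAlgebra.Matrix.Symmetric
import Mathlib.Data.Real.Basic
import Mathlib.Algebra.BigOperators.Fin
import Mathlib.Algebra.Order.BigOperators.Group.Finset
import Mathlib.Tactic.Ring
import Mathlib.Tactic.Linarith
import Mathlib.Tactic.Positivity
import Mathlib.Tactic.FieldSimp

/-! Quadratic forms with non-negative off-diagonal entries and a positive vector. -/

namespace Groth.L26.QForm

open Finset

variable {n : ℕ} {A : Matrix (Fin n) (Fin n) ℝ} {m : Fin n → ℝ}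

theorem two_mul_quad (hs : A.IsSymm) (t : Fin n → ℝ) :
    2 * ∑ i, ∑ j, A i j * (t i * m i) * (t j * m j)
      = 2 * ∑ i, t i ^ 2 * m i * ∑ j, A i j * m j
        - ∑ i, ∑ j, A i j * m i * m j * (t i - t j) ^ 2 := by
  have e : ∑ i, ∑ j, A i j * m i * m j * t j ^ 2 = ∑ i, ∑ j, A i j * m i * m j * t i ^ 2 := by
    rw [Finset.sum_comm]
    refine sum_congr rfl fun i _ => sum_congr rfl fun j _ => ?_
    rw [hs.apply i j]; ring
  have e2 : ∀ i, t i ^ 2 * m i * ∑ j, A i j * m j = ∑ j, A i j * m i * m j * t i ^ 2 := by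
    intro i; rw [mul_sum]; refine sum_congr rfl fun j _ => ?_; ring
  simp only [e2]
  have key : ∀ i j, A i j * m i * m j * (t i - t j) ^ 2
      = A i j * m i * m j * t i ^ 2 + A i j * m i * m j * t j ^ 2
        - 2 * (A i j * (t i * m i) * (t j * m j)) := by intros; ring
  simp only [key, sum_sub_distrib, sum_add_distrib, ← mul_sum, e]
  ring

theorem cross_nonneg (hA : ∀ i j, i ≠ j → 0 ≤ A i j) (hm : ∀ i, 0 < m i) (t : Fin n → ℝ)
    (i j : Fin n) : 0 ≤ A i j * m i * m j * (t i - t j) ^ 2 := by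
  by_cases h : i = j
  · subst h; simp
  · have := hA i j h; have := hm i; have := hm j; positivity

/-- If the form vanishes at `t • m` while `A m ≤ 0`, then `t` is constant along edges and vanishes
where `A m < 0`. -/
theorem quad_nonneg_imp (hs : A.IsSymm) (hA : ∀ i j, i ≠ j → 0 ≤ A i j) (hm : ∀ i, 0 < m i)
    (hle : ∀ i, ∑ j, A i j * m j ≤ 0) (t : Fin n → ℝ)
    (h : 0 ≤ ∑ i, ∑ j, A i j * (t i * m i) * (t j * m j)) :
    (∀ i j, A i j ≠ 0 → t i = t j) ∧ ∀ i, t i ≠ 0 → ∑ j, A i j * m j = 0 := by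
  have key := two_mul_quad (m := m) hs t
  have hd : ∀ i, t i ^ 2 * m i * ∑ j, A i j * m j ≤ 0 := fun i =>
    mul_nonpos_of_nonneg_of_nonpos (mul_nonneg (sq_nonneg _) (hm i).le) (hle i)
  have hc : 0 ≤ ∑ i, ∑ j, A i j * m i * m j * (t i - t j) ^ 2 :=
    sum_nonneg fun i _ => sum_nonneg fun j _ => cross_nonneg hA hm t i j
  have hd' : ∑ i, t i ^ 2 * m i * ∑ j, A i j * m j ≤ 0 := sum_nonpos fun i _ => hd i
  have hD : ∑ i, t i ^ 2 * m i * ∑ j, A i j * m j = 0 := by linarith
  have hC : ∑ i, ∑ j, A i j * m i * m j * (t i - t j) ^ 2 = 0 := by linarith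
  refine ⟨fun i j hij => ?_, fun i hi => ?_⟩
  · by_cases hij' : i = j
    · rw [hij']
    have h1 := (sum_eq_zero_iff_of_nonneg
      (fun i _ => sum_nonneg fun j _ => cross_nonneg hA hm t i j)).1 hC i (mem_univ _)
    have h2 := (sum_eq_zero_iff_of_nonneg (fun j _ => cross_nonneg hA hm t i j)).1 h1 j (mem_univ _)
    have := hm i; have := hm j
    have h3 : (t i - t j) ^ 2 = 0 := by
      rcases mul_eq_zero.1 h2 with h3 | h3
      · exfalso; rcases mul_eq_zero.1 h3 with h4 | h4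
        · rcases mul_eq_zero.1 h4 with h5 | h5
          · exact hij h5
          · linarith
        · linarith
      · exact h3
    exact sub_eq_zero.1 (pow_eq_zero_iff (two_ne_zero) |>.1 h3)
  · have h1 := (sum_eq_zero_iff_of_nonpos (fun i _ => hd i)).1 hD i (mem_univ _)
    rcases mul_eq_zero.1 h1 with h2 | h2
    · have := hm i; have : (0:ℝ) < t i ^ 2 := by positivity
      nlinarith
    · exact h2

theorem quad_nonpos (hs : A.IsSymm) (hA : ∀ i j, i ≠ j → 0 ≤ A i j) (hm : ∀ i, 0 < m i)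
    (hle : ∀ i, ∑ j, A i j * m j ≤ 0) (x : Fin n → ℝ) :
    ∑ i, ∑ j, A i j * x i * x j ≤ 0 := by
  have key := two_mul_quad (m := m) hs (fun i => x i / m i)
  have hx : ∀ i, x i / m i * m i = x i := fun i => div_mul_cancel₀ _ (hm i).ne'
  simp only [hx] at key
  have hd' : ∑ i, (x i / m i) ^ 2 * m i * ∑ j, A i j * m j ≤ 0 := sum_nonpos fun i _ =>
    mul_nonpos_of_nonneg_of_nonpos (mul_nonneg (sq_nonneg _) (hm i).le) (hle i)
  have hc : 0 ≤ ∑ i, ∑ j, A i j * m i * m j * (x i / m i - x j / m j) ^ 2 :=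
    sum_nonneg fun i _ => sum_nonneg fun j _ => cross_nonneg hA hm (fun i => x i / m i) i j
  linarith

/-- In the connected case a vector at which the form is non-negative is proportional to `m`. -/
theorem exists_smul_of_quad_nonneg (hn : 0 < n) (hs : A.IsSymm) (hA : ∀ i j, i ≠ j → 0 ≤ A i j)
    (hm : ∀ i, 0 < m i) (hAm : ∀ i, ∑ j, A i j * m j = 0)
    (hconn : ∀ I : Finset (Fin n), I.Nonempty → I ≠ univ → ∃ i ∈ I, ∃ j ∉ I, A i j ≠ 0)
    (x : Fin n → ℝ) (h : 0 ≤ ∑ i, ∑ j, A i j * x i * x j) : ∃ q : ℝ, ∀ i, x i = q * m i := by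
  classical
  have hx : ∀ i, x i / m i * m i = x i := fun i => div_mul_cancel₀ _ (hm i).ne'
  have ht := (quad_nonneg_imp hs hA hm (fun i => (hAm i).le) (fun i => x i / m i)
    (by simpa only [hx] using h)).1
  let i₀ : Fin n := ⟨0, hn⟩
  refine ⟨x i₀ / m i₀, fun i => ?_⟩
  let I : Finset (Fin n) := univ.filter fun j => x j / m j = x i₀ / m i₀
  have hI : I = univ := by
    by_contra hne
    obtain ⟨a, ha, b, hb, hab⟩ := hconn I ⟨i₀, by simp [I]⟩ hne
    refine hb ?_
    simp only [I, mem_filter, mem_univ, true_and] at ha ⊢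
    rw [← ht a b hab]; exact ha
  have hi : i ∈ I := by rw [hI]; exact mem_univ i
  simp only [I, mem_filter, mem_univ, true_and] at hi
  rw [← hi, hx]

theorem dotProduct_mulVec_eq (A : Matrix (Fin n) (Fin n) ℝ) (x : Fin n → ℝ) :
    dotProduct x (A.mulVec x) = ∑ i, ∑ j, A i j * x i * x j := by
  simp only [dotProduct, Matrix.mulVec, mul_sum]
  exact sum_congr rfl fun i _ => sum_congr rfl fun j _ => by ring

end Groth.L26.QForm
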