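import Mathlib.LinearAlgebra.Lagrange
import Mathlib.Data.Nat.Factorial.Basic
import Mathlib.Data.Rat.Floor
import Mathlib.Data.Nat.Choose.Basic
import Mathlib.Algebra.Order.Archimedean.Basic
import Mathlib.Algebra.Order.BigOperators.Group.Finset
import Mathlib.Algebra.Order.Ring.Rat
import Mathlib.Data.ZMod.Basic
import Mathlib.Tactic

/-!
Integer valued polynomials: a rational polynomial of degree `≤ g` taking integral values on all
integers has `g! * coeff` integral; and a polynomial `Q` with `b ^ e * Q (a / b)` integral for all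
fractions `a / b` in an interval is integer valued on all integers.
-/

namespace L26.IntVal

open Polynomial Finset

/-- integrality of a rational -/
def Isℤ (x : ℚ) : Prop := x ∈ (Int.castRingHom ℚ).range

lemma isℤ_iff {x : ℚ} : Isℤ x ↔ ∃ z : ℤ, x = (z : ℚ) :=
  ⟨fun ⟨z, hz⟩ => ⟨z, hz.symm⟩, fun ⟨z, hz⟩ => ⟨z, hz.symm⟩⟩

lemma prod_erase_range (g i : ℕ) (hi : i ≤ g) :
    (∏ j ∈ (range (g + 1)).erase i, ((i : ℤ) - (j : ℤ))) =
      (-1) ^ (g - i) * ((Nat.factorial i * Nat.factorial (g - i) : ℕ) : ℤ) := by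
  have hset : (range (g + 1)).erase i = range i ∪ Ico (i + 1) (g + 1) := by
    ext j; simp only [mem_erase, mem_range, mem_union, mem_Ico]; omega
  have hdisj : Disjoint (range i) (Ico (i + 1) (g + 1)) := by
    rw [disjoint_left]; intro a ha hb; simp only [mem_range, mem_Ico] at ha hb; omega
  rw [hset, prod_union hdisj]
  have h1 : (∏ j ∈ range i, ((i : ℤ) - (j : ℤ))) = (Nat.factorial i : ℤ) := by
    rw [← Finset.prod_range_reflect, ← prod_range_add_one_eq_factorial, Nat.cast_prod]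
    refine prod_congr rfl fun j hj => ?_
    rw [mem_range] at hj
    omega
  have h2 : (∏ j ∈ Ico (i + 1) (g + 1), ((i : ℤ) - (j : ℤ))) =
      (-1) ^ (g - i) * (Nat.factorial (g - i) : ℤ) := by
    rw [prod_Ico_eq_prod_range, ← prod_range_add_one_eq_factorial, Nat.cast_prod,
      show g + 1 - (i + 1) = g - i by omega]
    have hc : ∀ j : ℕ, ((i : ℤ) - ((i + 1 + j : ℕ) : ℤ)) = (-1) * ((j + 1 : ℕ) : ℤ) := by
      intro j; push_cast; ring
    rw [prod_congr rfl (fun j _ => hc j), prod_mul_distrib, prod_const, card_range]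
  rw [h1, h2]; push_cast; ring

lemma factorial_mul_coeff_isℤ {Q : ℚ[X]} {g : ℕ} (hQ : Q.natDegree ≤ g)
    (hval : ∀ x : ℕ, Isℤ (Q.eval (x : ℚ))) (j : ℕ) :
    Isℤ ((Nat.factorial g : ℚ) * Q.coeff j) := by
  have hinj : Set.InjOn (fun i : ℕ => (i : ℚ)) (range (g + 1) : Finset ℕ) :=
    fun a _ b _ h => Nat.cast_injective h
  have hdeg : Q.degree < ((range (g + 1)).card : WithBot ℕ) := by
    rw [card_range]
    exact lt_of_le_of_lt degree_le_natDegree (by exact_mod_cast Nat.lt_succ_of_le hQ)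
  have heq := Lagrange.eq_interpolate (f := Q) hinj hdeg
  rw [heq, Lagrange.interpolate_apply, finset_sum_coeff, mul_sum]
  refine Subring.sum_mem _ fun i hi => ?_
  rw [mem_range] at hi
  have hbasis : Lagrange.basis (range (g + 1)) (fun i : ℕ => (i : ℚ)) i =
      C (∏ l ∈ (range (g + 1)).erase i, ((i : ℚ) - (l : ℚ)))⁻¹ *
        (∏ l ∈ (range (g + 1)).erase i, (X - C (l : ℤ))).map (Int.castRingHom ℚ) := by
    simp only [Lagrange.basis, Lagrange.basisDivisor, prod_mul_distrib, Polynomial.map_prod,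
      Polynomial.map_sub, Polynomial.map_X, Polynomial.map_C, ← map_prod, prod_inv_distrib]
    norm_num
  rw [hbasis, coeff_C_mul, coeff_C_mul, coeff_map]
  have hden : (∏ l ∈ (range (g + 1)).erase i, ((i : ℚ) - (l : ℚ))) =
      (-1) ^ (g - i) * ((Nat.factorial i * Nat.factorial (g - i) : ℕ) : ℚ) := by
    exact_mod_cast prod_erase_range g i (by omega)
  rw [hden]
  have hfac : (Nat.factorial g : ℚ) =
      (Nat.choose g i : ℚ) * ((Nat.factorial i * Nat.factorial (g - i) : ℕ) : ℚ) := by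
    rw [← Nat.choose_mul_factorial_mul_factorial (show i ≤ g by omega)]
    push_cast; ring
  have hne : ((Nat.factorial i * Nat.factorial (g - i) : ℕ) : ℚ) ≠ 0 :=
    Nat.cast_ne_zero.mpr (Nat.mul_ne_zero (Nat.factorial_ne_zero _) (Nat.factorial_ne_zero _))
  obtain ⟨v, hv⟩ := hval i
  refine ⟨(Nat.choose g i : ℤ) * (-1) ^ (g - i) * v *
    (∏ l ∈ (range (g + 1)).erase i, (X - C (l : ℤ))).coeff j, ?_⟩
  simp only [eq_intCast] at hv ⊢
  rw [hfac, ← hv]
  rcases neg_one_pow_eq_or ℚ (g - i) with h | h <;> (push_cast; rw [h]; field_simp)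

lemma isℤ_eval_of_interval {Q : ℚ[X]} {g e : ℕ} (hQ : Q.natDegree ≤ g) {u v : ℚ} (huv : u < v)
    (h : ∀ (a : ℤ) (b : ℕ), 0 < b → u < (a : ℚ) / (b : ℚ) → (a : ℚ) / (b : ℚ) < v →
      Isℤ (Q.eval ((a : ℚ) / (b : ℚ)) * (b : ℚ) ^ e))
    (x : ℤ) : Isℤ (Q.eval (x : ℚ)) := by
  classical
  set D : ℕ := ∏ j ∈ range (g + 1), (Q.coeff j).den with hD
  have hDpos : 0 < D := prod_pos fun j _ => (Q.coeff j).den_pos
  have hc : ∀ j ∈ range (g + 1), ∃ c : ℤ, (D : ℚ) * Q.coeff j = (c : ℚ) := by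
    intro j hj
    obtain ⟨m, hm⟩ := dvd_prod_of_mem (fun j => (Q.coeff j).den) hj
    refine ⟨(m : ℤ) * (Q.coeff j).num, ?_⟩
    have hD' : (D : ℚ) = ((Q.coeff j).den : ℚ) * (m : ℚ) := by exact_mod_cast hm
    rw [hD']; push_cast
    rw [mul_comm ((Q.coeff j).den : ℚ), mul_assoc, Rat.den_mul_eq_num]
  choose! c hc using hc
  obtain ⟨n, hn⟩ := exists_nat_gt (((D : ℚ) + 1) / (v - u))
  set b : ℕ := 1 + D * n with hb
  have hbpos : 0 < b := by omega
  have hbpos' : (0 : ℚ) < (b : ℚ) := by exact_mod_cast hbpos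
  have hbig : (D : ℚ) + 1 < (v - u) * b := by
    have h1 : ((D : ℚ) + 1) < (v - u) * n := by
      rw [div_lt_iff₀ (sub_pos.mpr huv)] at hn; linarith
    have h2 : (n : ℚ) ≤ b := by
      exact_mod_cast (show n ≤ b by
        have := Nat.le_mul_of_pos_left n hDpos; omega)
    nlinarith [sub_pos.mpr huv]
  set s : ℤ := ⌊(u * b - x) / D⌋ + 1 with hs
  set a : ℤ := x + D * s with ha
  have hDq : (0 : ℚ) < (D : ℚ) := by exact_mod_cast hDpos
  have hlo : u * b < (a : ℚ) := by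
    have := Int.lt_floor_add_one ((u * b - x) / D)
    rw [div_lt_iff₀ hDq] at this
    simp only [ha, hs]; push_cast; linarith
  have hhi : (a : ℚ) < v * b := by
    have := Int.floor_le ((u * b - x) / D)
    rw [le_div_iff₀ hDq] at this
    simp only [ha, hs]; push_cast; linarith
  obtain ⟨N, hN⟩ := h a b hbpos (by rw [lt_div_iff₀ hbpos']; exact hlo)
    (by rw [div_lt_iff₀ hbpos']; exact hhi)
  rw [eq_intCast] at hN
  have hdeg : Q.natDegree < g + 1 := Nat.lt_succ_of_le hQ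
  set H : ℤ := ∑ j ∈ range (g + 1), c j * a ^ j * (b : ℤ) ^ (g - j) with hH
  set Px : ℤ := ∑ j ∈ range (g + 1), c j * x ^ j with hPx
  have hHq : (H : ℚ) = (D : ℚ) * Q.eval ((a : ℚ) / b) * (b : ℚ) ^ g := by
    rw [eval_eq_sum_range' hdeg, mul_sum, sum_mul, hH]
    push_cast
    refine sum_congr rfl fun j hj => ?_
    rw [← hc j hj, div_pow]
    rw [mem_range] at hj
    have hsplit : (b : ℚ) ^ g = (b : ℚ) ^ (g - j) * (b : ℚ) ^ j := by
      rw [← pow_add]; congr 1; omega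
    rw [hsplit]
    field_simp
  have hmul : H * (b : ℤ) ^ e = (D : ℤ) * N * (b : ℤ) ^ g := by
    have : (H : ℚ) * (b : ℚ) ^ e = (D : ℚ) * N * (b : ℚ) ^ g := by
      rw [hHq, hN]; ring
    exact_mod_cast this
  have hbD : ((b : ℤ) : ZMod D) = 1 := by simp [hb]
  have haD : (a : ZMod D) = (x : ZMod D) := by simp [ha]
  have hcong : (H : ZMod D) = (Px : ZMod D) := by
    rw [hH, hPx, Int.cast_sum, Int.cast_sum]
    refine sum_congr rfl fun j _ => ?_
    rw [Int.cast_mul, Int.cast_mul, Int.cast_pow, Int.cast_pow, hbD, haD, one_pow, mul_one,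
      Int.cast_mul, Int.cast_pow]
  have hP0 : (Px : ZMod D) = 0 := by
    have h' := congrArg (Int.cast : ℤ → ZMod D) hmul
    simp only [Int.cast_mul, Int.cast_pow, hbD, one_pow, mul_one, Int.cast_natCast,
      ZMod.natCast_self, zero_mul] at h'
    rw [← hcong]; exact h'
  obtain ⟨z, hz⟩ := (ZMod.intCast_zmod_eq_zero_iff_dvd _ _).mp hP0
  have hPxq : (Px : ℚ) = (D : ℚ) * Q.eval (x : ℚ) := by
    rw [eval_eq_sum_range' hdeg, mul_sum, hPx]
    push_cast
    exact sum_congr rfl fun j hj => by rw [← hc j hj]; ring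
  refine ⟨z, ?_⟩
  rw [eq_intCast]
  have hz' : (Px : ℚ) = (D : ℚ) * (z : ℚ) := by exact_mod_cast hz
  exact mul_left_cancel₀ hDq.ne' (hz'.symm.trans hPxq)

lemma main {Q : ℚ[X]} {g e : ℕ} (hQ : Q.natDegree ≤ g) {u v : ℚ} (huv : u < v)
    (H : ℤ → ℕ → ℕ)
    (h : ∀ (a : ℤ) (b : ℕ), 0 < b → u < (a : ℚ) / (b : ℚ) → (a : ℚ) / (b : ℚ) < v →
      (H a b : ℚ) / (b : ℚ) ^ e = Q.eval ((a : ℚ) / (b : ℚ)))
    (j : ℕ) : ∃ z : ℤ, (Nat.factorial g : ℚ) * Q.coeff j = (z : ℚ) := by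
  refine isℤ_iff.mp (factorial_mul_coeff_isℤ hQ (fun x => ?_) j)
  have := isℤ_eval_of_interval (e := e) hQ huv (fun a b hb h1 h2 => isℤ_iff.mpr ⟨(H a b : ℤ), ?_⟩) (x : ℤ)
  · simpa using this
  · rw [← h a b hb h1 h2, div_mul_cancel₀ _ (pow_ne_zero _ (Nat.cast_ne_zero.mpr hb.ne'))]
    norm_num

end L26.IntVal
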